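import Groth.Agent.RG.Devissage
import Groth.Agent.LocDimFormula.Basic
import Groth.Agent.AlgSpDec.ResTrdeg
import Groth.Prelude.Def_FlatCA

/-! Flatness in dimensions at least `n` along finite maps of rings. -/

set_option autoImplicit false
set_option linter.style.haveILetI false
set_option linter.unusedSectionVars false
set_option backward.isDefEq.respectTransparency false
set_option backward.isDefEq.respectTransparency.types false

universe u

open TensorProduct CategoryTheory AlgebraicGeometry
open Groth.Agent.ValPrufer.DimFun (str)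

namespace Groth.Agent.DevFlat

variable {A C C' : Type u} [CommRing A] [CommRing C] [Algebra A C] [Algebra.FiniteType A C]

/-- A prime as a point of the spectrum. -/
noncomputable abbrev pt (Q : Ideal C) [Q.IsPrime] : Spec (CommRingCat.of C) :=
  (⟨Q, inferInstance⟩ : PrimeSpectrum C)

/-- The transcendence degree of the residue extension at a prime. -/
theorem trdeg_eq_rd (t : Ideal A) (Q : Ideal C) [t.IsPrime] [Q.IsPrime] [h : Q.LiesOver t] :
    letI : Algebra t.ResidueField Q.ResidueField :=
      (Ideal.ResidueField.mapₐ t Q (Algebra.ofId A C) h.over).toRingHom.toAlgebra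
    Algebra.trdeg t.ResidueField Q.ResidueField = (FibDim.rd (str A C) (pt Q) : Cardinal.{u}) := by
  letI : Algebra t.ResidueField Q.ResidueField :=
    (Ideal.ResidueField.mapₐ t Q (Algebra.ofId A C) h.over).toRingHom.toAlgebra
  letI : Algebra (A ⧸ t) (C ⧸ Q) := Ideal.Quotient.algebraQuotientOfLEComap h.over.le
  haveI : IsScalarTower A (A ⧸ t) (C ⧸ Q) := IsScalarTower.of_algebraMap_eq fun _ => rfl
  letI : Algebra (A ⧸ t) Q.ResidueField :=
    ((algebraMap (C ⧸ Q) Q.ResidueField).comp (algebraMap (A ⧸ t) (C ⧸ Q))).toAlgebra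
  haveI : IsScalarTower (A ⧸ t) (C ⧸ Q) Q.ResidueField := IsScalarTower.of_algebraMap_eq fun _ => rfl
  haveI : IsScalarTower (A ⧸ t) t.ResidueField Q.ResidueField := IsScalarTower.of_algebraMap_eq fun a => by
    obtain ⟨a, rfl⟩ := Ideal.Quotient.mk_surjective a
    show algebraMap (C ⧸ Q) Q.ResidueField (algebraMap (A ⧸ t) (C ⧸ Q) (algebraMap A (A ⧸ t) a)) =
      algebraMap t.ResidueField Q.ResidueField (algebraMap (A ⧸ t) t.ResidueField (algebraMap A (A ⧸ t) a))
    rw [← IsScalarTower.algebraMap_apply A (A ⧸ t) (C ⧸ Q), ← IsScalarTower.algebraMap_apply A (C ⧸ Q) Q.ResidueField,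
      ← IsScalarTower.algebraMap_apply A (A ⧸ t) t.ResidueField]
    exact (AlgHom.commutes (Ideal.ResidueField.mapₐ t Q (Algebra.ofId A C) h.over) a).symm
  haveI : FaithfulSMul (A ⧸ t) t.ResidueField := (faithfulSMul_iff_algebraMap_injective _ _).2
    (IsFractionRing.injective (A ⧸ t) t.ResidueField)
  haveI : FaithfulSMul (C ⧸ Q) Q.ResidueField := (faithfulSMul_iff_algebraMap_injective _ _).2
    (IsFractionRing.injective (C ⧸ Q) Q.ResidueField)
  haveI : FaithfulSMul (A ⧸ t) (C ⧸ Q) := (faithfulSMul_iff_algebraMap_injective _ _).2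
    (Ideal.quotientMap_injective' h.over.ge)
  haveI : FaithfulSMul t.ResidueField Q.ResidueField := (faithfulSMul_iff_algebraMap_injective _ _).2
    (algebraMap t.ResidueField Q.ResidueField).injective
  haveI : IsDomain (A ⧸ t) := Ideal.Quotient.isDomain t
  haveI : IsDomain (C ⧸ Q) := Ideal.Quotient.isDomain Q
  rw [ValPrufer.DimFun.rd_eq_fd, DimFormula.fd_eq_trdeg A t (Ideal.Quotient.mkₐ A Q) Ideal.Quotient.mk_surjective Q
    Ideal.mk_ker h.over.symm,
    ← LocDimFormula.trdeg_eq_of_isLocalization (R := A ⧸ t) (S := C ⧸ Q) (L := Q.ResidueField) (nonZeroDivisors (C ⧸ Q))]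
  haveI : Algebra.IsAlgebraic (A ⧸ t) t.ResidueField := IsLocalization.isAlgebraic t.ResidueField (nonZeroDivisors (A ⧸ t))
  rw [← trdeg_add_eq (A ⧸ t) t.ResidueField (A := Q.ResidueField), trdeg_eq_zero (R := A ⧸ t) (A := t.ResidueField),
    zero_add]

variable (P : Type u) [AddCommGroup P]

/-- Flatness over `A` at the primes of `C` avoiding `g` of relative dimension at least `n`. -/
def FlatGE (n : ℕ) (g : A) (C : Type u) [CommRing C] [Algebra A C] [Algebra.FiniteType A C] (P : Type u) [AddCommGroup P]
    [Module C P] [Module A P] [IsScalarTower A C P] : Prop :=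
  ∀ (Q : Ideal C) [Q.IsPrime], algebraMap A C g ∉ Q → n ≤ FibDim.rd (str A C) (pt Q) → FlatCA.FlatAt A Q P

theorem flatInDimGE_iff [Module C P] [Module A P] [IsScalarTower A C P] (n : ℕ) {g : A} (hg : IsUnit g) :
    FlatCA.FlatInDimGE n A C P ↔ FlatGE n g C P := by
  constructor
  · intro h Q _ _ hn
    haveI : Q.LiesOver (Q.under A) := ⟨rfl⟩
    by_contra hne
    have := h (Q.under A) Q hne
    rw [trdeg_eq_rd, Nat.cast_lt] at this
    omega
  · intro h t Q _ _ _ hne
    rw [trdeg_eq_rd, Nat.cast_lt]
    by_contra hn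
    exact hne (h Q (fun hgQ => Ideal.IsPrime.ne_top ‹Q.IsPrime› (Q.eq_top_of_isUnit_mem hgQ (hg.map _))) (not_lt.1 hn))

theorem FlatGE.mono [Module C P] [Module A P] [IsScalarTower A C P] {n : ℕ} {g g' : A} (h : FlatGE n g C P) (hg : g ∣ g') :
    FlatGE n g' C P :=
  fun Q _ hQ hn => h Q (fun hm => hQ (Q.mem_of_dvd (map_dvd _ hg) hm)) hn

theorem FlatGE.congr [Module C P] [Module A P] [IsScalarTower A C P] {P' : Type u} [AddCommGroup P'] [Module C P'] [Module A P']
    [IsScalarTower A C P'] (e : P ≃ₗ[C] P') {n : ℕ} {g : A} (h : FlatGE n g C P) : FlatGE n g C P' :=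
  fun Q _ hQ hn => RG.flatAt_congr Q e (h Q hQ hn)

theorem flatGE_congr [Module C P] [Module A P] [IsScalarTower A C P] {P' : Type u} [AddCommGroup P'] [Module C P'] [Module A P']
    [IsScalarTower A C P'] (e : P ≃ₗ[C] P') {n : ℕ} {g : A} : FlatGE n g C P ↔ FlatGE n g C P' :=
  ⟨fun h => h.congr _ e, fun h => h.congr _ e.symm⟩

variable [CommRing C'] [Algebra A C'] [Algebra C C'] [IsScalarTower A C C'] [Module C' P] [Module C P] [IsScalarTower C C' P]
  [Module A P] [IsScalarTower A C P] [IsScalarTower A C' P]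

/-- For a finite algebra, flatness at a prime is flatness at all primes over it. -/
theorem flatAt_iff_forall_over [Module.Finite C C'] (p : Ideal C) [p.IsPrime] :
    FlatCA.FlatAt A p P ↔ ∀ (Q : Ideal C') [Q.IsPrime], Q.comap (algebraMap C C') = p → FlatCA.FlatAt A Q P := by
  simp only [FlatCA.FlatAt]
  rw [FlatModel.flat_localized_iff p.primeCompl (LocalizedModule.mkLinearMap p.primeCompl P)]
  constructor
  · intro h Q _ hQ
    rw [FlatModel.flat_localized_iff Q.primeCompl (LocalizedModule.mkLinearMap Q.primeCompl P)]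
    intro J y hy
    obtain ⟨s, hs, hsy⟩ := h J y hy
    exact ⟨algebraMap C C' s, fun hm => hs (hQ.le hm), by rwa [RG.algebraMap_smul_tensor]⟩
  · intro h J y hy
    by_contra hne
    push Not at hne
    let K : Ideal C' :=
      { carrier := {b | b • y = 0}
        add_mem' := fun {b c} (hb : b • y = 0) (hc : c • y = 0) => by
          show (b + c) • y = 0
          rw [add_smul, hb, hc, add_zero]
        zero_mem' := zero_smul C' y
        smul_mem' := fun c b (hb : b • y = 0) => by
          show (c * b) • y = 0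
          rw [mul_smul, hb, smul_zero] }
    have hle : K.comap (algebraMap C C') ≤ p := by
      intro s hs
      by_contra hsq
      exact hne s hsq ((RG.algebraMap_smul_tensor (A := C') J s y).symm.trans hs)
    haveI : Algebra.IsIntegral C C' := Algebra.IsIntegral.of_finite C C'
    obtain ⟨Q', hQ'le, hQ', hQ'c⟩ := Ideal.exists_ideal_over_prime_of_isIntegral p K hle
    obtain ⟨a, ha, hay⟩ :=
      (FlatModel.flat_localized_iff Q'.primeCompl (LocalizedModule.mkLinearMap Q'.primeCompl P)).1 (h Q' hQ'c) J y hy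
    exact ha (hQ'le hay)

variable [Algebra.FiniteType A C']

/-- A finite map does not change relative dimensions. -/
theorem rd_comap [Module.Finite C C'] (Q : Ideal C') [Q.IsPrime] :
    FibDim.rd (str A C') (pt Q) = FibDim.rd (str A C) (pt (Q.comap (algebraMap C C'))) := by
  have hc : str A C' = str C C' ≫ str A C := by
    show Spec.map _ = Spec.map _ ≫ Spec.map _
    rw [← Spec.map_comp, ← CommRingCat.ofHom_comp, ← IsScalarTower.algebraMap_eq]
  haveI : IsFinite (str C C') := (IsFinite.SpecMap_iff (f := CommRingCat.ofHom (algebraMap C C'))).2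
    (RingHom.finite_algebraMap.2 inferInstance)
  have h0 : FibDim.rd (str C C') (pt Q) = 0 := by
    have := AlgSpDec.ResTrdeg.rdeg_eq_zero_of_lqf (str C C') (pt Q)
    rw [← FibDim.rd_eq_rdeg] at this
    exact_mod_cast this
  have h1 := FibDim.rd_comp (str C C') (str A C) (pt Q)
  simp only [← hc] at h1
  rw [h1, h0, add_zero]
  rfl

/-- Flatness in dimensions at least `n` does not see finite maps. -/
theorem flatGE_finite [Module.Finite C C'] (n : ℕ) (g : A) : FlatGE n g C P ↔ FlatGE n g C' P := by
  constructor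
  · intro h Q _ hQ hn
    rw [rd_comap (C := C)] at hn
    refine (flatAt_iff_forall_over P _).1 (h _ (fun hm => hQ ?_) hn) Q rfl
    rw [IsScalarTower.algebraMap_apply A C C']
    exact hm
  · intro h p _ hp hn
    refine (flatAt_iff_forall_over (C' := C') P p).2 fun Q _ hQ => h Q (fun hm => hp (hQ.le ?_)) ?_
    · show algebraMap C C' (algebraMap A C g) ∈ Q
      rwa [← IsScalarTower.algebraMap_apply A C C']
    · rw [rd_comap (C := C) (A := A) Q]
      subst hQ
      exact hn

end Groth.Agent.DevFlat
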