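import Groth.Agent.DevFlat.Main

/-! The induction along a complete dévissage. -/

set_option autoImplicit false
set_option linter.style.haveILetI false
set_option linter.unusedSectionVars false
set_option backward.isDefEq.respectTransparency false
set_option backward.isDefEq.respectTransparency.types false

universe u

open CategoryTheory AlgebraicGeometry
open scoped TensorProduct

attribute [local instance] Algebra.TensorProduct.rightAlgebra

namespace Groth.Agent.DevFlat

variable {A B : Type u} [CommRing A] [CommRing B] [Algebra A B] {N : Type u} [AddCommGroup N] [Module B N]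
  {s : Ideal A} [s.IsPrime] (D : FlatCA.CompleteDevissage A B N s)

theorem isScalarTower_AM (i : ℕ) : IsScalarTower A (D.A i) (D.M i) :=
  IsScalarTower.of_algebraMap_smul fun a m => by
    rw [IsScalarTower.algebraMap_apply A (D.B i) (D.A i), algebraMap_smul, algebraMap_smul]

theorem isScalarTower_B'M (i : ℕ) : IsScalarTower A (D.B i) (D.M (i + 1)) := by
  haveI := isScalarTower_AM D (i + 1)
  exact IsScalarTower.of_algebraMap_smul fun a m => by
    rw [← algebraMap_smul (D.A (i + 1)) (algebraMap A (D.B i) a) m, ← IsScalarTower.algebraMap_apply A (D.B i) (D.A (i + 1)),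
      algebraMap_smul]

/-- The data of a step are finitely presented. -/
theorem finitePresentation_step [Algebra.FinitePresentation A B] [Module.FinitePresentation B N] :
    ∀ i, i < D.n → Algebra.FinitePresentation A (D.A i) ∧ Module.FinitePresentation (D.B i) (D.M i) := by
  intro i
  induction i with
  | zero =>
    intro hi
    haveI := D.smooth 0 hi
    haveI := D.fpSA
    haveI hA : Algebra.FinitePresentation A (D.A 0) := Algebra.FinitePresentation.trans A B (D.A 0)
    haveI := D.finiteBA 0 hi
    haveI := D.finiteM 0 hi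
    haveI : Module.FinitePresentation B (D.M 0) := Module.FinitePresentation.of_equiv D.isoN
    haveI : Module.Finite B (D.A 0) := Module.Finite.of_surjective (Algebra.linearMap B (D.A 0)) D.surjSA
    haveI : Module.FinitePresentation (D.A 0) (D.M 0) := RG.fp_of_restrict (S := B)
    haveI : Algebra.FinitePresentation (D.B 0) (D.A 0) :=
      Algebra.FinitePresentation.of_restrict_scalars_finitePresentation A (D.B 0) (D.A 0)
    haveI : Module.FinitePresentation (D.B 0) (D.A 0) :=
      Module.FinitePresentation.of_finite_of_finitePresentation _ _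
    exact ⟨hA, Module.FinitePresentation.trans (D.B 0) (D.M 0) (D.A 0)⟩
  | succ i ih =>
    intro hi
    obtain ⟨-, hM⟩ := ih (Nat.lt_of_succ_lt hi)
    haveI := D.smooth i (Nat.lt_of_succ_lt hi)
    haveI := D.smooth (i + 1) hi
    haveI := D.fpBA' i hi
    haveI hA : Algebra.FinitePresentation A (D.A (i + 1)) := Algebra.FinitePresentation.trans A (D.B i) (D.A (i + 1))
    haveI := D.finiteBA (i + 1) hi
    haveI := D.finiteM (i + 1) hi
    haveI : Module.FinitePresentation (D.B i) (D.M i ⧸ LinearMap.range (D.α i)) :=
      Module.finitePresentation_of_surjective (LinearMap.range (D.α i)).mkQ (Submodule.mkQ_surjective _)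
        (by rw [Submodule.ker_mkQ, LinearMap.range_eq_map]; exact Module.Finite.fg_top.map (D.α i))
    haveI : Module.FinitePresentation (D.B i) (D.M (i + 1)) := Module.FinitePresentation.of_equiv (D.isoCoker i hi)
    haveI : Module.Finite (D.B i) (D.A (i + 1)) :=
      Module.Finite.of_surjective (Algebra.linearMap (D.B i) (D.A (i + 1))) (D.surjBA' i hi)
    haveI : Module.FinitePresentation (D.A (i + 1)) (D.M (i + 1)) := RG.fp_of_restrict (S := D.B i)
    haveI : Algebra.FinitePresentation (D.B (i + 1)) (D.A (i + 1)) :=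
      Algebra.FinitePresentation.of_restrict_scalars_finitePresentation A (D.B (i + 1)) (D.A (i + 1))
    haveI : Module.FinitePresentation (D.B (i + 1)) (D.A (i + 1)) :=
      Module.FinitePresentation.of_finite_of_finitePresentation _ _
    exact ⟨hA, Module.FinitePresentation.trans (D.B (i + 1)) (D.M (i + 1)) (D.A (i + 1))⟩

/-- Representability from step `i` on. -/
theorem exists_rep [Algebra.FinitePresentation A B] [Module.FinitePresentation B N] (d : ℕ)
    (hdim : ∀ i, i < D.n → ∃ e, FlatCA.SmoothRelDim e A (D.B i)) :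
    ∀ (k i : ℕ) (hi : i < D.n), i + k + 1 = D.n → ∀ g : A, g ∉ s →
      (haveI := D.smooth i hi; FlatGE (d + 1) g (D.B i) (D.M i)) →
      ∃ g' : A, g' ∉ s ∧ g ∣ g' ∧ (haveI := D.smooth i hi; Rep d (D.B i) (D.M i) g') := by
  intro k
  induction k with
  | zero =>
    intro i hi hk g hg h
    haveI := D.smooth i hi
    haveI := (finitePresentation_step D i hi).2
    obtain ⟨e, he⟩ := hdim i hi
    rcases le_or_gt e d with hed | hed
    · exact ⟨g, hg, dvd_rfl, rep_of_le d (D.M i) (D.geomIrred i hi) e he hed g⟩
    obtain ⟨g', hg', hgg', -, hiff⟩ := exists_step d (D.M i) (D.geomIrred i hi) e he hed (D.α i) (D.fibreIso i hi) g hg h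
    refine ⟨g', hg', hgg', Rep.of_forall d _ _ fun A' _ _ hu => (hiff A' hu).2 ?_⟩
    haveI : Subsingleton (D.M i ⧸ LinearMap.range (D.α i)) := by
      rw [Submodule.Quotient.subsingleton_iff, LinearMap.range_eq_top]
      obtain rfl : i = D.n - 1 := by omega
      exact D.cokerLast
    exact subsingleton_flatGE d 1
  | succ k ih =>
    intro i hi hk g hg h
    have hi' : i + 1 < D.n := by omega
    haveI := D.smooth i hi
    haveI := D.smooth (i + 1) hi'
    haveI := (finitePresentation_step D i hi).2
    obtain ⟨e, he⟩ := hdim i hi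
    rcases le_or_gt e d with hed | hed
    · exact ⟨g, hg, dvd_rfl, rep_of_le d (D.M i) (D.geomIrred i hi) e he hed g⟩
    obtain ⟨g', hg', hgg', hcok, hiff⟩ := exists_step d (D.M i) (D.geomIrred i hi) e he hed (D.α i) (D.fibreIso i hi) g hg h
    haveI := (finitePresentation_step D (i + 1) hi').1
    haveI : Module.Finite (D.B i) (D.A (i + 1)) :=
      Module.Finite.of_surjective (Algebra.linearMap (D.B i) (D.A (i + 1))) (D.surjBA' i hi')
    haveI := D.finiteBA (i + 1) hi'
    haveI := isScalarTower_AM D (i + 1)
    haveI := isScalarTower_B'M D i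
    have hnext : FlatGE (d + 1) g' (D.B (i + 1)) (D.M (i + 1)) :=
      (flatGE_finite (C := D.B (i + 1)) (C' := D.A (i + 1)) _ _ _).2
        ((flatGE_finite (C := D.B i) (C' := D.A (i + 1)) _ _ _).1 (hcok.congr _ (D.isoCoker i hi')))
    obtain ⟨g'', hg'', hgg'', Z, j, h1, h2, h3, h4, hZ⟩ := ih (i + 1) hi' (by omega) g' hg' hnext
    refine ⟨g'', hg'', hgg'.trans hgg'', Z, j, h1, h2, h3, h4, fun A' _ _ hu => ?_⟩
    rw [hiff A' (isUnit_of_dvd_unit (map_dvd _ hgg'') hu), ← hZ A' hu,
      flatGE_congr _ (LinearEquiv.baseChange (D.B i) (A' ⊗[A] D.B i) (M := D.M i ⧸ LinearMap.range (D.α i))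
        (N := D.M (i + 1)) (D.isoCoker i hi')),
      flatGE_tensor_finite (C := D.B i) (C₁ := D.A (i + 1)) (D.M (i + 1)) A',
      flatGE_tensor_finite (C := D.B (i + 1)) (C₁ := D.A (i + 1)) (D.M (i + 1)) A']

end Groth.Agent.DevFlat
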