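import Groth.Agent.DevFlat.Tilde
import Groth.Agent.FreeGen.Strat
import Groth.Agent.FreeGen.Repr
import Groth.Agent.S9027
import Groth.Agent.S2265
import Groth.Agent.H23.PiecesProper
import Groth.Agent.QCoh.Pullback
import Groth.Agent.QCoh.SpecFT

/-! Flatness in the top dimension is represented by a monomorphism. -/

set_option autoImplicit false
set_option linter.style.haveILetI false
set_option backward.isDefEq.respectTransparency false
set_option backward.isDefEq.respectTransparency.types false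

universe u

open CategoryTheory CategoryTheory.Limits AlgebraicGeometry TopologicalSpace Opposite
open Groth.Agent.ValPrufer.DimFun (str)
open scoped TensorProduct

namespace Groth.Agent.DevFlat

section Coprod

variable {S : Scheme.{u}} {ι : Type u} {Z : ι → Scheme.{u}} (i : ∀ p, Z p ⟶ S)

theorem mono_sigmaDesc [∀ p, Mono (i p)] (hdisj : ∀ p q (z : Z p) (z' : Z q), i p z = i q z' → p = q) :
    Mono (Sigma.desc i) := by
  refine ⟨fun {T} a b hab => ?_⟩
  let 𝒰 := (sigmaOpenCover Z).pullback₁ a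
  refine 𝒰.hom_ext fun p => ?_
  let j : 𝒰.X p ⟶ T := 𝒰.f p
  let a' : 𝒰.X p ⟶ Z p := pullback.snd a ((sigmaOpenCover Z).f p)
  have ha : j ≫ a = a' ≫ Sigma.ι Z p := pullback.condition
  have hsub : Set.range (j ≫ b) ⊆ Set.range (Sigma.ι Z p) := by
    rintro _ ⟨x, rfl⟩
    obtain ⟨q, z, hz⟩ : ∃ q, ∃ z : Z q, Sigma.ι Z q z = (j ≫ b) x := (sigmaOpenCover Z).exists_eq ((j ≫ b) x)
    have h1 : i q z = i p (a' x) := by
      rw [← Sigma.ι_desc i q, Scheme.Hom.comp_apply, hz, ← Scheme.Hom.comp_apply, Category.assoc, ← hab,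
        reassoc_of% ha, Sigma.ι_desc, Scheme.Hom.comp_apply]
    obtain rfl := hdisj _ _ _ _ h1
    exact ⟨z, hz⟩
  have hb : IsOpenImmersion.lift (Sigma.ι Z p) (j ≫ b) hsub ≫ Sigma.ι Z p = j ≫ b := IsOpenImmersion.lift_fac _ _ _
  show j ≫ a = j ≫ b
  rw [ha, ← hb]
  congr 1
  have h2 := congrArg (fun m => j ≫ m) hab
  simp only [reassoc_of% ha, ← reassoc_of% hb, Sigma.ι_desc] at h2
  exact (cancel_mono (i p)).1 h2

theorem exists_lift_iff [Mono (Sigma.desc i)] {T : Scheme.{u}} (t : T ⟶ S) :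
    (∃ k : T ⟶ ∐ Z, k ≫ Sigma.desc i = t) ↔
      ∀ x : T, ∃ (V : T.Opens) (p : ι), x ∈ V ∧ ∃ k : V.toScheme ⟶ Z p, k ≫ i p = V.ι ≫ t := by
  constructor
  · rintro ⟨k, hk⟩ x
    obtain ⟨p, z, hz⟩ : ∃ p, ∃ z : Z p, Sigma.ι Z p z = k x := (sigmaOpenCover Z).exists_eq (k x)
    let V : T.Opens := k ⁻¹ᵁ (Sigma.ι Z p).opensRange
    have hsub : Set.range (V.ι ≫ k) ⊆ Set.range (Sigma.ι Z p) := by
      rintro _ ⟨v, rfl⟩
      exact v.2
    refine ⟨V, p, ⟨z, hz⟩, IsOpenImmersion.lift (Sigma.ι Z p) (V.ι ≫ k) hsub, ?_⟩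
    rw [← Sigma.ι_desc i p, IsOpenImmersion.lift_fac_assoc, Category.assoc, hk]
  · intro h
    choose V p hxV k hk using h
    let 𝒱 : T.OpenCover := T.openCoverOfIsOpenCover V
      (TopologicalSpace.IsOpenCover.mk (top_le_iff.1 fun x _ => Opens.mem_iSup.2 ⟨x, hxV x⟩))
    let g : ∀ x : T, (V x).toScheme ⟶ ∐ Z := fun x => k x ≫ Sigma.ι Z (p x)
    have hg : ∀ x, g x ≫ Sigma.desc i = (V x).ι ≫ t := fun x => by
      rw [Category.assoc, Sigma.ι_desc, hk]
    have hglue : ∀ x y, pullback.fst (𝒱.f x) (𝒱.f y) ≫ g x = pullback.snd (𝒱.f x) (𝒱.f y) ≫ g y := fun x y => by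
      refine (cancel_mono (Sigma.desc i)).1 ?_
      exact (Category.assoc _ _ _).trans <| (congrArg (pullback.fst (𝒱.f x) (𝒱.f y) ≫ ·) (hg x)).trans <|
        (pullback.condition_assoc t).trans <| (congrArg (pullback.snd (𝒱.f x) (𝒱.f y) ≫ ·) (hg y)).symm.trans
          (Category.assoc _ _ _).symm
    refine ⟨𝒱.glueMorphisms g hglue, 𝒱.hom_ext _ _ fun x => ?_⟩
    rw [𝒱.ι_glueMorphisms_assoc]
    exact hg x

end Coprod

section Disjoint

variable {X S : Scheme.{u}} (f : X ⟶ S) [Smooth f] [GeometricallyIrreducible f] {F : X.Modules}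
  (hM : Coh.IsQCoh F) (hft : CohB1.IsFT F)

include hM hft in
/-- Two ranks cannot hold over a common point. -/
theorem cond_rank_unique {T : Over S} (t : T.left) {p q : ℕ} (hp : FreeGen.Cond f p F T) (hq : FreeGen.Cond f q F T) :
    p = q := by
  suffices ∀ p q, FreeGen.Cond f p F T → FreeGen.Cond f q F T → ¬ q < p from
    le_antisymm (not_lt.1 (this p q hp hq)) (not_lt.1 (this q p hq hp))
  intro p q hp hq hlt
  obtain ⟨x, hx, hgx, hfx⟩ := hp t
  obtain ⟨y, hy, hgy, hfy⟩ := hq t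
  obtain rfl : x = y := (Specializes.antisymm (hgx y (hy.trans hx.symm)) (hgy x (hx.trans hy.symm))).eq
  have hET : Coh.IsQCoh (FGA.ET f F T) := QCoh.isQCoh_pullback _ hM
  have hETft : CohB1.IsFT (FGA.ET f F T) := FittX.isFT_pullback _ hM hft
  obtain ⟨W, hxW, hW⟩ := (FreeGen.of_isFreeOfRankNear hET hETft hfx).2 q hlt
  refine FreeGen.mem_locus_iff.1 (FreeGen.of_isFreeOfRankNear hET hETft hfy).1
    ((Scheme.IdealSheafData.mem_support_iff_of_mem hxW).2 ?_)
  rw [hW]
  exact (Scheme.mem_zeroLocus_iff _ _ x).2 fun a ha => by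
    rw [show a = 0 from ha, Scheme.basicOpen_zero]
    exact id

end Disjoint

section Affine

variable {A C : Type u} [CommRing A] [CommRing C] [Algebra A C] (M : Type u) [AddCommGroup M] [Module C M]

theorem dimFibresLT_iff_of_iso {X Y T : Scheme.{u}} (e : X ≅ Y) (q : Y ⟶ T) (q' : X ⟶ T) (hq : e.hom ≫ q = q')
    [LocallyOfFiniteType q] [LocallyOfFiniteType q'] (n : ℕ) (G : Y.Modules) (G' : X.Modules)
    (ε : G' ≅ (Scheme.Modules.pullback e.hom).obj G) :
    FlatFun.DimFibresLT n q {x | ¬ FlatMod.IsFlatOverAt q G x} ↔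
      FlatFun.DimFibresLT n q' {x | ¬ FlatMod.IsFlatOverAt q' G' x} :=
  ⟨fun h => S9027.key e.hom q G n h hq ε, fun h => S9027.key e.inv q' G' n h (by rw [← hq, e.inv_hom_id_assoc])
    ((Scheme.Modules.pullbackId Y).symm.app G ≪≫ (Scheme.Modules.pullbackCongr e.inv_hom_id.symm).app G ≪≫
      ((Scheme.Modules.pullbackComp e.inv e.hom).app G).symm ≪≫ (Scheme.Modules.pullback e.inv).mapIso ε.symm)⟩

theorem dimFibresLT_tilde_iff (A' B : Type u) [CommRing A'] [CommRing B] [Algebra A' B] [Algebra.FiniteType A' B]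
    (N : Type u) [AddCommGroup N] [Module B N] [Module A' N] [IsScalarTower A' B N] (n : ℕ) :
    FlatFun.DimFibresLT n (str A' B) {x | ¬ FlatMod.IsFlatOverAt (str A' B) (tilde (ModuleCat.of B N)) x} ↔
      FlatGE n (1 : A') B N := by
  constructor
  · intro h Q _ _ hn
    by_contra hne
    have h1 : VarDim.rdeg (str A' B) (pt Q) < (n : Cardinal) := h (pt Q) fun hc => hne ((flatOverAt_tilde_iff A' B N Q).1 hc)
    rw [← FibDim.rd_eq_rdeg, Nat.cast_lt] at h1
    omega
  · intro h x hx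
    show VarDim.rdeg (str A' B) x < (n : Cardinal)
    rw [← FibDim.rd_eq_rdeg, Nat.cast_lt]
    by_contra hn
    let P : PrimeSpectrum B := x
    haveI := P.isPrime
    refine hx ((flatOverAt_tilde_iff A' B N P.asIdeal).2 (h P.asIdeal (fun h1 => P.isPrime.ne_top
      (P.asIdeal.eq_top_of_isUnit_mem h1 (isUnit_one.map _))) (not_lt.1 hn)))

/-- In top dimension the condition is represented by a monomorphism. -/
theorem exists_top [Algebra.Smooth A C] (d : ℕ) (hd : FlatCA.SmoothRelDim d A C) (hg : FlatCA.GeomIrredFibres A C)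
    [Module.FinitePresentation C M] :
    ∃ (Z : Scheme.{u}) (i : Z ⟶ Spec (CommRingCat.of A)),
      Mono i ∧ LocallyOfFinitePresentation i ∧ QuasiCompact i ∧ QuasiSeparated i ∧
      ∀ (A' C'' : Type u) [CommRing A'] [CommRing C''] [Algebra A A'] [Algebra A' C''] [Algebra C C''] [Algebra A C'']
        [IsScalarTower A A' C''] [IsScalarTower A C C''] [Algebra.IsPushout A A' C C''] [Algebra.FiniteType A' C''],
        (FlatGE d (1 : A') C'' (C'' ⊗[C] M) ↔
          ∃ k : Spec (CommRingCat.of A') ⟶ Z, k ≫ i = Spec.map (CommRingCat.ofHom (algebraMap A A'))) := by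
  let f : Spec (CommRingCat.of C) ⟶ Spec (CommRingCat.of A) := Spec.map (CommRingCat.ofHom (algebraMap A C))
  haveI : SmoothOfRelativeDimension d f := hd
  haveI : GeometricallyIrreducible f := hg
  haveI : Smooth f := SmoothOfRelativeDimension.smooth d f
  let F := tilde (R := CommRingCat.of C) (ModuleCat.of C M)
  have hM : Coh.IsQCoh F := inferInstance
  have hfp : CohB1.IsFP F := (QCoh.isFP_tilde_iff (R := CommRingCat.of C) (ModuleCat.of C M)).2 inferInstance
  have hft := QCoh.isFT_of_isFP hfp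
  obtain ⟨c, hc⟩ := FreeGen.flat_top_iff_locally_free f d hM hfp
  choose Z hZ hrep hprops using fun p : ULift.{u} (Fin (c + 1)) => FreeGen.exists_repr f hM hft p.down.1
  have key : ∀ (p : ULift.{u} (Fin (c + 1))) (T : Over (Spec (CommRingCat.of A))), FreeGen.Cond f p.down.1 F T ↔ Nonempty (T ⟶ Z p) :=
    fun p T => (FlatFun.genPSp_nonempty_iff_of_stable _ (FreeGen.cond_stable f hM hft p.down.1) T).symm.trans
      ⟨fun h => h.map (hrep p).some.homEquiv.symm, fun h => h.map (hrep p).some.homEquiv⟩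
  haveI : ∀ p, IsImmersion (Z p).hom := hZ
  haveI : ∀ p, Mono (Z p).hom := fun p => inferInstance
  have hdisj : ∀ p q (z : (Z p).left) (z' : (Z q).left), (Z p).hom z = (Z q).hom z' → p = q := fun p q z z' h => by
    obtain ⟨w, -, -⟩ := Scheme.Pullback.exists_preimage_pullback z z' h
    let T : Over (Spec (CommRingCat.of A)) := Over.mk (pullback.fst (Z p).hom (Z q).hom ≫ (Z p).hom)
    exact ULift.ext _ _ <| Fin.ext (cond_rank_unique f hM hft (T := T) w
      ((key p T).2 ⟨Over.homMk (pullback.fst (Z p).hom (Z q).hom) rfl⟩)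
      ((key q T).2 ⟨Over.homMk (pullback.snd (Z p).hom (Z q).hom) pullback.condition.symm⟩))
  haveI : Mono (Sigma.desc fun p => (Z p).hom) := mono_sigmaDesc _ hdisj
  haveI : ∀ p, LocallyOfFinitePresentation (Z p).hom := fun p => (hprops p hfp).1
  haveI : ∀ p, QuasiCompact (Z p).hom := fun p => (hprops p hfp).2.1
  haveI : QuasiCompact (Sigma.desc fun p => (Z p).hom) :=
    H23.PiecesProper.quasiCompact_desc (W := fun p => (Z p).left) (fun p => (Z p).hom) (locallyFinite_of_finite _)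
  refine ⟨_, Sigma.desc fun p => (Z p).hom, inferInstance, IsZariskiLocalAtSource.sigmaDesc fun p => inferInstance,
    inferInstance, inferInstance, fun A' C'' _ _ _ _ _ _ _ _ _ _ => ?_⟩
  let T : Over (Spec (CommRingCat.of A)) := Over.mk (Spec.map (CommRingCat.ofHom (algebraMap A A')))
  haveI : Algebra.IsPushout A C A' C'' := Algebra.IsPushout.symm inferInstance
  have hsq : IsPullback (str C C'') (str A' C'') f T.hom :=
    isPullback_SpecMap_of_isPushout _ _ _ _ (CommRingCat.isPushout_of_isPushout A C A' C'')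
  let e := hsq.isoPullback
  haveI : LocallyOfFiniteType (PicF.XTproj f T) := MorphismProperty.pullback_snd f T.hom inferInstance
  have h1 : FlatGE d (1 : A') C'' (C'' ⊗[C] M) ↔
      FlatFun.DimFibresLT d (PicF.XTproj f T)
        {x | ¬ FlatMod.IsFlatOverAt (PicF.XTproj f T) (FGA.ET f F T) x} := by
    rw [← dimFibresLT_tilde_iff A' C'' (C'' ⊗[C] M) d]
    refine (dimFibresLT_iff_of_iso e (PicF.XTproj f T) (str A' C'') hsq.isoPullback_hom_snd d _ _ ?_).symm
    exact (S2265.result C C'' M).some.symm ≪≫ (Scheme.Modules.pullbackCongr hsq.isoPullback_hom_fst.symm).app F ≪≫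
      ((Scheme.Modules.pullbackComp e.hom (pullback.fst f T.hom)).app F).symm
  rw [h1, hc T, exists_lift_iff]
  refine forall_congr' fun t => ⟨?_, ?_⟩
  · rintro ⟨V, p, hV, hp, hfree⟩
    obtain ⟨φ⟩ := (key ⟨⟨p, by omega⟩⟩ (Over.mk (V.ι ≫ T.hom))).1 hfree
    exact ⟨V, ⟨⟨p, by omega⟩⟩, hV, φ.left, Over.w φ⟩
  · rintro ⟨V, p, hV, k, hk⟩
    exact ⟨V, p.down.1, hV, Nat.lt_succ_iff.1 p.down.2, (key p (Over.mk (V.ι ≫ T.hom))).2 ⟨Over.homMk k hk⟩⟩

end Affine

end Groth.Agent.DevFlat
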