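import Groth.Agent.DevFlat.Step
import Groth.Agent.DevFlat.Repr
import Groth.Agent.RG.SmoothDom

/-! Representability of flatness in dimensions at least `d` along a complete dévissage. -/

set_option autoImplicit false
set_option linter.style.haveILetI false
set_option linter.unusedSectionVars false
set_option backward.isDefEq.respectTransparency false
set_option backward.isDefEq.respectTransparency.types false

universe u

open CategoryTheory AlgebraicGeometry
open scoped TensorProduct
open Groth.Agent.ValPrufer.DimFun (str)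

attribute [local instance] Algebra.TensorProduct.rightAlgebra

namespace Groth.Agent.DevFlat

variable {A : Type u} [CommRing A] (d : ℕ)

section Rep

variable (C : Type u) [CommRing C] [Algebra A C] [Algebra.FiniteType A C] (M : Type u) [AddCommGroup M] [Module C M]

/-- Flatness in dimensions at least `d` after base change is represented by a monomorphism. -/
def Rep (g : A) : Prop :=
  ∃ (Z : Scheme.{u}) (i : Z ⟶ Spec (CommRingCat.of A)),
    Mono i ∧ LocallyOfFinitePresentation i ∧ QuasiCompact i ∧ QuasiSeparated i ∧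
    ∀ (A' : Type u) [CommRing A'] [Algebra A A'], IsUnit (algebraMap A A' g) →
      (FlatGE d (1 : A') (A' ⊗[A] C) ((A' ⊗[A] C) ⊗[C] M) ↔
        ∃ k : Spec (CommRingCat.of A') ⟶ Z, k ≫ i = Spec.map (CommRingCat.ofHom (algebraMap A A')))

theorem Rep.of_forall {g : A}
    (h : ∀ (A' : Type u) [CommRing A'] [Algebra A A'], IsUnit (algebraMap A A' g) →
      FlatGE d (1 : A') (A' ⊗[A] C) ((A' ⊗[A] C) ⊗[C] M)) : Rep d C M g :=
  ⟨_, 𝟙 _, inferInstance, inferInstance, inferInstance, inferInstance, fun A' _ _ hg =>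
    ⟨fun _ => ⟨_, Category.comp_id _⟩, fun _ => h A' hg⟩⟩

/-- Relative dimensions are bounded for smooth algebras. -/
theorem rd_le_of_smooth {A' : Type u} [CommRing A'] [Algebra A A'] (e : ℕ) (he : FlatCA.SmoothRelDim e A C)
    (Q : Ideal (A' ⊗[A] C)) [Q.IsPrime] : FibDim.rd (str A' (A' ⊗[A] C)) (pt Q) ≤ e := by
  haveI : SmoothOfRelativeDimension e (Spec.map (CommRingCat.ofHom (algebraMap A C))) := he
  have hsq : IsPullback (str C (A' ⊗[A] C)) (str A' (A' ⊗[A] C))
      (Spec.map (CommRingCat.ofHom (algebraMap A C))) (Spec.map (CommRingCat.ofHom (algebraMap A A'))) :=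
    isPullback_SpecMap_of_isPushout _ _ _ _ (CommRingCat.isPushout_of_isPushout A C A' (A' ⊗[A] C))
  haveI := smoothOfRelativeDimension_isStableUnderBaseChange (n := e)
  haveI : SmoothOfRelativeDimension e (str A' (A' ⊗[A] C)) := MorphismProperty.of_isPullback hsq he
  have h := FibDim.fibreDimAt_ge_rd (str A' (A' ⊗[A] C)) (specializes_refl (pt Q))
  rw [S2768.result e] at h
  exact_mod_cast h

/-- The generic point of the fibre over `s` has the full relative dimension. -/
theorem le_rd_map (e : ℕ) (he : FlatCA.SmoothRelDim e A C) (hg : FlatCA.GeomIrredFibres A C) (s : Ideal A) [s.IsPrime]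
    [(s.map (algebraMap A C)).IsPrime] [Algebra.Smooth A C] :
    (s.map (algebraMap A C)).LiesOver s ∧ e ≤ FibDim.rd (str A C) (pt (s.map (algebraMap A C))) := by
  haveI : IsDomain (s.Fiber C) := RG.domFib_of_smooth_geomIrred hg s.ResidueField
  obtain ⟨⟨Q, hQ⟩⟩ : Nonempty (PrimeSpectrum (s.Fiber C)) := inferInstance
  let Q₀ := Q.comap (Algebra.TensorProduct.includeRight : C →ₐ[A] s.Fiber C).toRingHom
  have hQ₀ : Q₀.comap (algebraMap A C) = s := by
    ext a
    show (Algebra.TensorProduct.includeRight : C →ₐ[A] s.Fiber C) (algebraMap A C a) ∈ Q ↔ a ∈ s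
    rw [AlgHom.commutes, IsScalarTower.algebraMap_apply A s.ResidueField (s.Fiber C)]
    show a ∈ Ideal.comap (algebraMap A s.ResidueField) (Q.comap (algebraMap s.ResidueField (s.Fiber C))) ↔ _
    rw [Ideal.eq_bot_of_prime (Q.comap (algebraMap s.ResidueField (s.Fiber C))), Ideal.mem_comap, Ideal.mem_bot,
      Ideal.algebraMap_residueField_eq_zero]
  have hle : ∀ P : Ideal C, P.comap (algebraMap A C) = s → s.map (algebraMap A C) ≤ P := fun P hP =>
    Ideal.map_le_iff_le_comap.2 hP.ge
  have hover : (s.map (algebraMap A C)).comap (algebraMap A C) = s :=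
    le_antisymm ((Ideal.comap_mono (hle Q₀ hQ₀)).trans hQ₀.le) Ideal.le_comap_map
  refine ⟨⟨hover.symm⟩, ?_⟩
  haveI : SmoothOfRelativeDimension e (str A C) := he
  haveI : GeometricallyIrreducible (str A C) := hg
  haveI : Smooth (str A C) := SmoothOfRelativeDimension.smooth e _
  by_contra hlt
  refine (FreeGen.rd_lt_iff_not_generic (str A C) e _).1 (not_le.1 hlt) fun x hx => ?_
  let P : PrimeSpectrum C := x
  refine (PrimeSpectrum.le_iff_specializes (⟨s.map (algebraMap A C), inferInstance⟩ : PrimeSpectrum C) P).1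
    (hle P.asIdeal ?_)
  exact (congrArg PrimeSpectrum.asIdeal hx).trans hover

end Rep

/-- The cases of a step that do not need the induction. -/
theorem rep_of_le {C : Type u} [CommRing C] [Algebra A C] [Algebra.Smooth A C] (M : Type u) [AddCommGroup M] [Module C M]
    [Module.FinitePresentation C M] (hgi : FlatCA.GeomIrredFibres A C) (e : ℕ) (he : FlatCA.SmoothRelDim e A C)
    (hed : e ≤ d) (g : A) : Rep d C M g := by
  rcases hed.eq_or_lt with rfl | hlt
  · obtain ⟨Z, i, h1, h2, h3, h4, h⟩ := exists_top M e he hgi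
    exact ⟨Z, i, h1, h2, h3, h4, fun A' _ _ _ => h A' (A' ⊗[A] C)⟩
  · refine Rep.of_forall d C M fun A' _ _ _ Q _ _ hn => absurd ?_ (not_le.2 hlt)
    exact hn.trans (rd_le_of_smooth C e he Q)

/-- A finite map does not change representability. -/
theorem flatGE_tensor_finite {C C₁ : Type u} [CommRing C] [CommRing C₁] [Algebra A C] [Algebra A C₁] [Algebra C C₁]
    [IsScalarTower A C C₁] [Module.Finite C C₁] [Algebra.FiniteType A C] [Algebra.FiniteType A C₁] (M : Type u)
    [AddCommGroup M] [Module C M] [Module C₁ M] [IsScalarTower C C₁ M] [Module A M] [IsScalarTower A C M]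
    [IsScalarTower A C₁ M] (A' : Type u) [CommRing A'] [Algebra A A'] (n : ℕ) (g : A') :
    FlatGE n g (A' ⊗[A] C) ((A' ⊗[A] C) ⊗[C] M) ↔ FlatGE n g (A' ⊗[A] C₁) ((A' ⊗[A] C₁) ⊗[C₁] M) :=
  flatGE_transfer (A := A) (TensorProduct.mk C (A' ⊗[A] C) M 1) (TensorProduct.isBaseChange C M _)
    (TensorProduct.mk C₁ (A' ⊗[A] C₁) M 1) (TensorProduct.isBaseChange C₁ M _) n g

theorem subsingleton_flatGE {C P : Type u} [CommRing C] [Algebra A C] [Algebra.FiniteType A C] [AddCommGroup P]
    [Module C P] [Module A P] [IsScalarTower A C P] [Subsingleton P] (n : ℕ) (g : A) : FlatGE n g C P :=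
  fun Q _ _ _ => by
    haveI : Subsingleton (LocalizedModule Q.primeCompl P) := by
      refine ⟨fun x y => ?_⟩
      induction x using LocalizedModule.induction_on with
      | h m s =>
        induction y using LocalizedModule.induction_on with
        | h m' s' => rw [Subsingleton.elim m 0, Subsingleton.elim m' 0, LocalizedModule.zero_mk, LocalizedModule.zero_mk]
    show Module.Flat A (LocalizedModule Q.primeCompl P)
    infer_instance

variable {B : Type u} [CommRing B] [Algebra A B] {N : Type u} [AddCommGroup N] [Module B N]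
  {s : Ideal A} [s.IsPrime]

/-- Near `s` a step of relative dimension above `d` only passes to the cokernel. -/
theorem exists_step {C : Type u} [CommRing C] [Algebra A C] [Algebra.Smooth A C] (M : Type u) [AddCommGroup M] [Module C M]
    [Module A M] [IsScalarTower A C M] [Module.FinitePresentation C M] (hgi : FlatCA.GeomIrredFibres A C)
    (e : ℕ) (he : FlatCA.SmoothRelDim e A C) (hed : d < e) [(s.map (algebraMap A C)).IsPrime]
    {r : ℕ} (α : (Fin r → C) →ₗ[C] M) (hfib : Function.Bijective (α.baseChange (s.map (algebraMap A C)).ResidueField))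
    (g : A) (hg : g ∉ s) (h : FlatGE (d + 1) g C M) :
    ∃ g' : A, g' ∉ s ∧ g ∣ g' ∧ FlatGE (d + 1) g' C (M ⧸ LinearMap.range α) ∧
      ∀ (A' : Type u) [CommRing A'] [Algebra A A'], IsUnit (algebraMap A A' g') →
        (FlatGE d (1 : A') (A' ⊗[A] C) ((A' ⊗[A] C) ⊗[C] M) ↔
          FlatGE d (1 : A') (A' ⊗[A] C) ((A' ⊗[A] C) ⊗[C] (M ⧸ LinearMap.range α))) := by
  obtain ⟨hover, hrd⟩ := le_rd_map C e he hgi s
  have hflat : FlatCA.FlatAt A (s.map (algebraMap A C)) M := h _
    (fun hm => hg ((SetLike.ext_iff.1 hover.over g).2 hm)) (le_trans hed hrd)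
  have hd := RG.domFib_of_smooth_geomIrred hgi
  obtain ⟨β, hβ⟩ := RG.exists_retractions hd s _ rfl hover hflat α hfib
  obtain ⟨f, hf, hu⟩ := RG.exists_univInjUpTo_powers hd s _ hover α β hβ
  haveI : Module.Flat A (Fin r → C) := Module.Flat.trans A C _
  refine ⟨g * f, fun hm => (Ideal.IsPrime.mem_or_mem ‹_› hm).elim hg hf, dvd_mul_right g f, fun Q _ hQ hn => ?_,
    fun A' _ _ hu' => ?_⟩
  · refine (flatAt_iff_coker hu Q (Submonoid.powers_le.2 fun hm => hQ ?_)).1 ((h.mono _ (dvd_mul_right g f)) Q hQ hn)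
    rw [map_mul]
    exact Q.mul_mem_left _ hm
  · rw [map_mul] at hu'
    haveI : Module.Flat A' ((A' ⊗[A] C) ⊗[C] (Fin r → C)) := flat_baseChange_free (A := A) (X := Fin r → C)
    exact flatGE_step_baseChange hu (isUnit_of_mul_isUnit_right hu') d (1 : A')

end Groth.Agent.DevFlat
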