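import Groth.Agent.DevFlat.Transfer

/-! One step of a dévissage: a universally injective map from a free module. -/

set_option autoImplicit false
set_option linter.style.haveILetI false
set_option linter.unusedSectionVars false
set_option backward.isDefEq.respectTransparency false

universe u

open TensorProduct

namespace Groth.Agent.DevFlat

variable {A C M X : Type u} [CommRing A] [CommRing C] [Algebra A C]
  [AddCommGroup M] [Module C M] [Module A M] [IsScalarTower A C M]
  [AddCommGroup X] [Module C X] [Module A X] [IsScalarTower A C X] {α : X →ₗ[C] M}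

/-- An extension by a flat module, universally injective up to a submonoid, does not change flatness at the primes
avoiding the submonoid. -/
theorem flatAt_iff_coker [Module.Flat A X] {W : Submonoid C} (hu : RG.UnivInjUpTo A W α) (Q : Ideal C) [Q.IsPrime]
    (hW : W ≤ Q.primeCompl) : FlatCA.FlatAt A Q M ↔ FlatCA.FlatAt A Q (M ⧸ LinearMap.range α) :=
  ⟨fun h => RG.flat_coker hW hu h, fun h => RG.flat_of_coker
    (fun x hx => by
      obtain ⟨w, hw, hwx⟩ := hu.exists_smul_eq_zero hx
      exact ⟨w, hW hw, hwx⟩) h⟩

theorem flatGE_step [Algebra.FiniteType A C] [Module.Flat A X] {g : A}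
    (hu : RG.UnivInjUpTo A (Submonoid.powers (algebraMap A C g)) α) (n : ℕ) :
    FlatGE n g C M ↔ FlatGE n g C (M ⧸ LinearMap.range α) :=
  forall₄_congr fun Q _ hQ _ => flatAt_iff_coker hu Q (Submonoid.powers_le.2 hQ)

variable {A' C'' : Type u} [CommRing A'] [Algebra A A'] [CommRing C''] [Algebra A C''] [Algebra A' C''] [Algebra C C'']
  [IsScalarTower A A' C''] [IsScalarTower A C C''] [Algebra.IsPushout A A' C C'']

/-- `Q ⊗_A X ≅ Q ⊗_{A'} (C'' ⊗_C X)`. -/
noncomputable def tensorCancel (Q : Type u) [AddCommGroup Q] [Module A Q] [Module A' Q] [IsScalarTower A A' Q] (X : Type u)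
    [AddCommGroup X] [Module C X] [Module A X] [IsScalarTower A C X] : Q ⊗[A] X ≃ₗ[A'] Q ⊗[A'] (C'' ⊗[C] X) :=
  (AlgebraTensorModule.cancelBaseChange A A' A' Q X).symm.trans
    (LinearEquiv.lTensor Q (Algebra.IsPushout.cancelBaseChange A A' C C'' X).symm)

theorem tensorCancel_tmul (Q : Type u) [AddCommGroup Q] [Module A Q] [Module A' Q] [IsScalarTower A A' Q] (q : Q) (x : X) :
    tensorCancel (A' := A') (C'' := C'') Q X (q ⊗ₜ[A] x) = q ⊗ₜ[A'] ((1 : C'') ⊗ₜ[C] x) := by
  simp [tensorCancel]

/-- Universal injectivity survives a base change in which the parameter is invertible. -/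
theorem univInjUpTo_baseChange {f : A} (hu : RG.UnivInjUpTo A (Submonoid.powers (algebraMap A C f)) α)
    (hf : IsUnit (algebraMap A A' f)) : RG.UnivInjUpTo A' (⊥ : Submonoid C'') (α.baseChange C'') := by
  intro Q _ _ z hz
  refine ⟨1, (⊥ : Submonoid C'').one_mem, ?_⟩
  rw [one_smul]
  letI : Module A Q := Module.compHom Q (algebraMap A A')
  haveI : IsScalarTower A A' Q := IsScalarTower.of_algebraMap_smul fun _ _ => rfl
  let eX := tensorCancel (A := A) (A' := A') (C := C) (C'' := C'') Q X
  let eM := tensorCancel (A := A) (A' := A') (C := C) (C'' := C'') Q M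
  have hnat : ∀ w, ((α.baseChange C'').restrictScalars A').lTensor Q (eX w) = eM ((α.restrictScalars A).lTensor Q w) := by
    intro w
    induction w using TensorProduct.induction_on with
    | zero => simp only [map_zero]
    | add a b ha hb => simp only [map_add, ha, hb]
    | tmul q x =>
      rw [tensorCancel_tmul, LinearMap.lTensor_tmul, LinearMap.restrictScalars_apply, LinearMap.baseChange_tmul,
        LinearMap.lTensor_tmul, tensorCancel_tmul, LinearMap.restrictScalars_apply]
  obtain ⟨w, hw⟩ := eX.surjective (TensorProduct.comm A' _ Q z)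
  have h0 : (α.restrictScalars A).lTensor Q w = 0 := by
    apply eM.injective
    rw [← hnat, hw, LinearMap.lTensor_comm, hz, map_zero, map_zero]
  obtain ⟨v, ⟨k, rfl⟩, hv⟩ := hu Q (TensorProduct.comm A Q X w) (by rw [LinearMap.rTensor_comm, h0, map_zero])
  have h1 : f ^ k • w = 0 := by
    apply (TensorProduct.comm A Q X).injective
    rw [map_smul, map_zero, ← algebraMap_smul C (f ^ k), map_pow]
    exact hv
  have h2 : w = 0 := by
    rw [← algebraMap_smul A' (f ^ k), map_pow] at h1
    exact (hf.pow k).smul_eq_zero.1 h1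
  apply (TensorProduct.comm A' _ Q).injective
  rw [← hw, h2, map_zero, map_zero]

/-- Base change commutes with cokernels. -/
noncomputable def cokerEquiv (α : X →ₗ[C] M) :
    ((C'' ⊗[C] M) ⧸ LinearMap.range (α.baseChange C'')) ≃ₗ[C''] C'' ⊗[C] (M ⧸ LinearMap.range α) :=
  (Submodule.quotEquivOfEq _ _ (LinearMap.exact_iff.1 (show Function.Exact (α.baseChange C'')
      ((LinearMap.range α).mkQ.baseChange C'') from
        lTensor_exact C'' (LinearMap.exact_map_mkQ_range α) (Submodule.mkQ_surjective _))).symm).trans
    (LinearMap.quotKerEquivOfSurjective ((LinearMap.range α).mkQ.baseChange C'')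
      (LinearMap.lTensor_surjective C'' (Submodule.mkQ_surjective _)))

/-- One step of a dévissage after base change. -/
theorem flatGE_step_baseChange [Algebra.FiniteType A' C''] [Module.Flat A' (C'' ⊗[C] X)] {f : A}
    (hu : RG.UnivInjUpTo A (Submonoid.powers (algebraMap A C f)) α) (hf : IsUnit (algebraMap A A' f)) (n : ℕ) (g : A') :
    FlatGE n g C'' (C'' ⊗[C] M) ↔ FlatGE n g C'' (C'' ⊗[C] (M ⧸ LinearMap.range α)) := by
  refine Iff.trans ?_ (flatGE_congr _ (cokerEquiv (C'' := C'') α))
  exact forall₄_congr fun Q _ _ _ => flatAt_iff_coker (univInjUpTo_baseChange hu hf) Q bot_le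

/-- Free modules over a base change of a flat algebra are flat. -/
theorem flat_baseChange_free [Module.Flat A C] [Module.Free C X] : Module.Flat A' (C'' ⊗[C] X) := by
  haveI : Module.Flat A' C'' :=
    Module.Flat.of_linearEquiv (Algebra.IsPushout.equiv A A' C C'').symm.toLinearEquiv
  exact Module.Flat.trans A' C'' _

end Groth.Agent.DevFlat
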