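import Groth.Agent.DevFlat.Basic
import Groth.Agent.GrFlat5.FlatAtArtin

/-! Flatness of the sheaf of a module at a point of a spectrum. -/

set_option autoImplicit false
set_option linter.style.haveILetI false
set_option backward.isDefEq.respectTransparency false
set_option backward.isDefEq.respectTransparency.types false

universe u

open CategoryTheory AlgebraicGeometry TensorProduct TopologicalSpace Opposite
open Groth.Agent.ValPrufer.DimFun (str)

namespace Groth.Agent.DevFlat

theorem smul_tensor_eq_of_smul_eq {A B C M : Type u} [CommRing A] [CommRing B] [CommRing C] [Algebra A B] [Algebra A C]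
    [AddCommGroup M] [Module A M] [Module B M] [Module C M] [IsScalarTower A B M] [IsScalarTower A C M]
    (J : Ideal A) (b : B) (c : C) (h : ∀ m : M, b • m = c • m) (y : M ⊗[A] J) : b • y = c • y := by
  induction y using TensorProduct.induction_on with
  | zero => rw [smul_zero, smul_zero]
  | add x y hx hy => rw [smul_add, smul_add, hx, hy]
  | tmul m j => rw [smul_tmul', smul_tmul', h]

/-- Flatness over the base of the sheaf of a module at a point is flatness of the localisation. -/
theorem flatOverAt_tilde_iff (A B : Type u) [CommRing A] [CommRing B] [Algebra A B] [Algebra.FiniteType A B]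
    (N : Type u) [AddCommGroup N] [Module B N] [Module A N] [IsScalarTower A B N] (Q : Ideal B) [Q.IsPrime] :
    FlatMod.IsFlatOverAt (str A B) (tilde (ModuleCat.of B N)) (pt Q) ↔ FlatCA.FlatAt A Q N := by
  let φ : CommRingCat.of A ⟶ CommRingCat.of B := CommRingCat.ofHom (algebraMap A B)
  let f : Spec (CommRingCat.of B) ⟶ Spec (CommRingCat.of A) := str A B
  let G := tilde (R := CommRingCat.of B) (ModuleCat.of B N)
  let iA := (Scheme.ΓSpecIso (CommRingCat.of A)).symm
  let iB := Scheme.ΓSpecIso (CommRingCat.of B)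
  let U : (Spec (CommRingCat.of B)).Opens := ⊤
  letI : Module Γ(Spec (CommRingCat.of B), U) N := Module.compHom N iB.hom.hom
  letI : Algebra A Γ(Spec (CommRingCat.of B), U) := (iA.hom ≫ f.appLE ⊤ U le_top).hom.toAlgebra
  have hmap : ∀ a : A, iB.hom (algebraMap A Γ(Spec (CommRingCat.of B), U) a) = algebraMap A B a := fun a => by
    have h := congr($(Scheme.ΓSpecIso_inv_naturality φ) a)
    show iB.hom (f.appLE ⊤ ⊤ le_top (iA.hom a)) = φ a
    rw [show f.appLE ⊤ ⊤ le_top = f.appTop from Scheme.Hom.appLE_eq_app (f := f)]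
    exact (congrArg iB.hom h.symm).trans (iB.inv_hom_id_apply (φ a))
  haveI : IsScalarTower A Γ(Spec (CommRingCat.of B), U) N := IsScalarTower.of_algebraMap_smul fun a m => by
    show iB.hom (algebraMap A Γ(Spec (CommRingCat.of B), U) a) • m = a • m
    rw [hmap, algebraMap_smul]
  let e0 := ((tilde.toTildeΓNatIso (R := CommRingCat.of B)).app (ModuleCat.of B N)).toLinearEquiv
  let j : N ≃ₗ[Γ(Spec (CommRingCat.of B), U)] Γ(G, U) :=
    { toFun := fun m => (show Γ(G, ⊤) from e0 m)
      invFun := fun z => e0.symm z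
      left_inv := e0.symm_apply_apply
      right_inv := e0.apply_symm_apply
      map_add' := map_add e0
      map_smul' := fun r m => by
        refine Eq.trans (map_smul e0 (iB.hom r) m) ?_
        show iB.inv (iB.hom r) • (show Γ(G, ⊤) from e0 m) = r • (show Γ(G, ⊤) from e0 m)
        rw [iB.hom_inv_id_apply] }
  let Q' := ((isAffineOpen_top (Spec (CommRingCat.of B))).primeIdealOf ⟨pt Q, trivial⟩).asIdeal
  have hQ' : Q'.comap iB.inv.hom = Q := GrFlat5.comap_primeIdealOf_top (pt Q)
  refine (GrFlat5.flatAt_iff_flat_localized (str A B) (M := G) inferInstance (isAffineOpen_top _)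
    (isAffineOpen_top _) le_top iA rfl Q' trivial rfl j).trans ?_
  rw [FlatCA.FlatAt, FlatModel.flat_localized_iff Q'.primeCompl (LocalizedModule.mkLinearMap Q'.primeCompl N),
    FlatModel.flat_localized_iff Q.primeCompl (LocalizedModule.mkLinearMap Q.primeCompl N)]
  refine forall₃_congr fun J y _ => ⟨?_, ?_⟩
  · rintro ⟨s, hs, hsy⟩
    refine ⟨iB.hom s, fun hm => hs ?_, ?_⟩
    · rw [← iB.hom_inv_id_apply s]
      exact hQ'.ge hm
    · exact (smul_tensor_eq_of_smul_eq J (iB.hom s) s (fun m => rfl) y).trans hsy
  · rintro ⟨s, hs, hsy⟩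
    refine ⟨iB.inv s, fun hm => hs (hQ'.le hm), ?_⟩
    refine (smul_tensor_eq_of_smul_eq J (iB.inv s) s (fun m => ?_) y).trans hsy
    show iB.hom (iB.inv s) • m = s • m
    rw [iB.inv_hom_id_apply]

end Groth.Agent.DevFlat
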