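import Groth.Agent.DevFlat.Basic

/-! Base changes of modules along finite maps of algebras. -/

set_option autoImplicit false
set_option linter.style.haveILetI false
set_option linter.unusedSectionVars false
set_option backward.isDefEq.respectTransparency false

universe u

open TensorProduct

namespace Groth.Agent.DevFlat

variable {A A' C C'' M M' : Type u} [CommRing A] [CommRing A'] [Algebra A A'] [CommRing C] [Algebra A C] [CommRing C'']
  [Algebra A C''] [Algebra A' C''] [Algebra C C''] [IsScalarTower A A' C''] [IsScalarTower A C C'']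
  [Algebra.IsPushout A A' C C''] [AddCommGroup M] [Module C M] [Module A M] [IsScalarTower A C M]
  [AddCommGroup M'] [Module C'' M'] [Module C M'] [IsScalarTower C C'' M'] [Module A' M'] [IsScalarTower A' C'' M']
  [Module A M'] [IsScalarTower A A' M'] [IsScalarTower A C M']

/-- A base change of modules along a base change of rings is a base change along the base rings. -/
theorem isBaseChange_iff (φ : M →ₗ[C] M') : IsBaseChange C'' φ ↔ IsBaseChange A' (φ.restrictScalars A) := by
  let c := Algebra.IsPushout.cancelBaseChange A A' C C'' M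
  constructor
  · intro h
    refine IsBaseChange.of_equiv (c.symm.trans (h.equiv.restrictScalars A')) fun x => ?_
    simp [c]
  · intro h
    let L : C'' ⊗[C] M →ₗ[C''] M' := (TensorProduct.isBaseChange C M C'').lift φ
    have hL : ∀ x, L ((1 : C'') ⊗ₜ[C] x) = φ x := (TensorProduct.isBaseChange C M C'').lift_eq φ
    have hLb : ∀ z, L (c.symm z) = h.equiv z := fun z => by
      induction z using TensorProduct.induction_on with
      | zero => simp
      | add a b ha hb => simp only [map_add, ha, hb]
      | tmul a m =>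
        rw [Algebra.IsPushout.cancelBaseChange_symm_tmul, h.equiv_tmul,
          show algebraMap A' C'' a ⊗ₜ[C] m = algebraMap A' C'' a • ((1 : C'') ⊗ₜ[C] m) by
            rw [smul_tmul', smul_eq_mul, mul_one],
          map_smul, hL, algebraMap_smul]
        rfl
    have hbij : Function.Bijective L := by
      have : ⇑L = ⇑h.equiv ∘ ⇑c := funext fun z => by
        show L z = h.equiv (c z)
        rw [← hLb, LinearEquiv.symm_apply_apply]
      rw [this]
      exact h.equiv.bijective.comp c.bijective
    exact IsBaseChange.of_equiv (LinearEquiv.ofBijective L hbij) hL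

section Finite

variable {C₁ C₁'' M₁' : Type u} [CommRing C₁] [Algebra A C₁] [CommRing C₁'']
  [Algebra A C₁''] [Algebra A' C₁''] [Algebra C₁ C₁''] [IsScalarTower A A' C₁''] [IsScalarTower A C₁ C₁'']
  [Algebra.IsPushout A A' C₁ C₁''] [Algebra C C₁] [IsScalarTower A C C₁] [Module.Finite C C₁]
  [Module C₁ M] [IsScalarTower C C₁ M] [IsScalarTower A C₁ M]
  [AddCommGroup M₁'] [Module C₁'' M₁'] [Module C₁ M₁'] [IsScalarTower C₁ C₁'' M₁'] [Module A' M₁']
  [IsScalarTower A' C₁'' M₁'] [Module A M₁'] [IsScalarTower A A' M₁'] [IsScalarTower A C₁ M₁']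
  [Algebra.FiniteType A' C''] [Algebra.FiniteType A' C₁'']

include A in
/-- Flatness in dimensions at least `n` of base changes, along a finite map of algebras. -/
theorem flatGE_transfer (φ : M →ₗ[C] M') (hφ : IsBaseChange C'' φ) (φ₁ : M →ₗ[C₁] M₁') (hφ₁ : IsBaseChange C₁'' φ₁)
    (n : ℕ) (g : A') : FlatGE n g C'' M' ↔ FlatGE n g C₁'' M₁' := by
  letI : Algebra C C₁'' := ((algebraMap C₁ C₁'').comp (algebraMap C C₁)).toAlgebra
  haveI : IsScalarTower C C₁ C₁'' := IsScalarTower.of_algebraMap_eq fun _ => rfl
  haveI : IsScalarTower A C C₁'' := IsScalarTower.of_algebraMap_eq fun a => by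
    rw [IsScalarTower.algebraMap_apply C C₁ C₁'', ← IsScalarTower.algebraMap_apply A C C₁,
      ← IsScalarTower.algebraMap_apply A C₁ C₁'']
  let u : C'' →ₐ[A] C₁'' := Algebra.pushoutDesc C'' (IsScalarTower.toAlgHom A A' C₁'')
    (IsScalarTower.toAlgHom A C C₁'') fun _ _ => mul_comm _ _
  letI : Algebra C'' C₁'' := u.toRingHom.toAlgebra
  haveI : IsScalarTower A' C'' C₁'' := IsScalarTower.of_algebraMap_eq fun a =>
    (Algebra.pushoutDesc_left C'' (IsScalarTower.toAlgHom A A' C₁'') (IsScalarTower.toAlgHom A C C₁'') _ a).symm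
  haveI : IsScalarTower C C'' C₁'' := IsScalarTower.of_algebraMap_eq fun a =>
    (Algebra.pushoutDesc_right C'' (IsScalarTower.toAlgHom A A' C₁'') (IsScalarTower.toAlgHom A C C₁'') _ a).symm
  haveI : Module.Finite C'' C₁'' := by
    obtain ⟨S, hS⟩ := Module.Finite.fg_top (R := C) (M := C₁)
    classical
    refine ⟨⟨S.image (algebraMap C₁ C₁''), ?_⟩⟩
    rw [Finset.coe_image, eq_top_iff]
    rintro z -
    refine (Algebra.IsPushout.out (R := A) (S := A') (R' := C₁) (S' := C₁'')).inductionOn z _ (zero_mem _) (fun x => ?_)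
      (fun a y hy => ?_) (fun _ _ => add_mem)
    · have hx : x ∈ Submodule.span C (S : Set C₁) := hS.symm ▸ Submodule.mem_top
      show algebraMap C₁ C₁'' x ∈ _
      refine Submodule.span_induction (fun y hy => Submodule.subset_span ⟨y, hy, rfl⟩) (by rw [map_zero]; exact zero_mem _)
        (fun y z _ _ hy hz => by rw [map_add]; exact add_mem hy hz) (fun c y _ hy => ?_) hx
      rw [Algebra.smul_def, map_mul, ← IsScalarTower.algebraMap_apply C C₁ C₁'', IsScalarTower.algebraMap_apply C C'' C₁'',
        ← Algebra.smul_def]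
      exact Submodule.smul_mem _ _ hy
    · rw [← algebraMap_smul C'' a y]
      exact Submodule.smul_mem _ _ hy
  letI : Module C'' M₁' := Module.compHom M₁' u.toRingHom
  haveI : IsScalarTower C'' C₁'' M₁' := IsScalarTower.of_algebraMap_smul fun _ _ => rfl
  haveI : IsScalarTower A' C'' M₁' := IsScalarTower.of_algebraMap_smul fun a m => by
    rw [← algebraMap_smul C₁'' (algebraMap A' C'' a) m, ← IsScalarTower.algebraMap_apply A' C'' C₁'', algebraMap_smul]
  letI : Module C M₁' := Module.compHom M₁' (algebraMap C C₁)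
  haveI : IsScalarTower C C₁ M₁' := IsScalarTower.of_algebraMap_smul fun _ _ => rfl
  haveI : IsScalarTower C C'' M₁' := IsScalarTower.of_algebraMap_smul fun c m => by
    rw [← algebraMap_smul C₁'' (algebraMap C C'' c) m, ← IsScalarTower.algebraMap_apply C C'' C₁'',
      IsScalarTower.algebraMap_apply C C₁ C₁'', algebraMap_smul, algebraMap_smul]
  haveI : IsScalarTower A C M₁' := IsScalarTower.of_algebraMap_smul fun a m => by
    rw [← algebraMap_smul C₁ (algebraMap A C a) m, ← IsScalarTower.algebraMap_apply A C C₁, algebraMap_smul]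
  let ψ : M →ₗ[C] M₁' := φ₁.restrictScalars C
  have hψ : IsBaseChange C'' ψ := (isBaseChange_iff (A := A) (A' := A') ψ).2 ((isBaseChange_iff (A := A) (A' := A') φ₁).1 hφ₁)
  rw [flatGE_congr M' (hφ.equiv.symm.trans hψ.equiv)]
  exact flatGE_finite (C := C'') (C' := C₁'') M₁' n g

end Finite

end Groth.Agent.DevFlat
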